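import Cfsg.Agent.H664.RC.Cent

/-!
# S3510, box E7: orders of centralizers of irreducible elements of `PGU_n(q)` (helper664)
-/

set_option autoImplicit false

namespace Cfsg.Agent.H664.RC

open Module Matrix Cfsg Cfsg.Agent.LieClassical.HermBasic Cfsg.Agent.LieClassical.HermSiegel Cfsg.Agent.H380.RC
  Cfsg.Agent.ClassicalGeometry.PSUAutBasic

variable {G Ω : Type*} [Group G] [MulAction G Ω] {N : Subgroup G} {F : Type*} [Field F] [Fintype F] {n q : ℕ}
  {U : UEnv G Ω N F n q}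

/-- the linear map of a linear lift -/
def tolin {g : G} {h : (Fin n → F) → (Fin n → F)} (hl : U.Lft g h) (hh : Lin h) : Module.End F (Fin n → F) where
  toFun := h
  map_add' := hl.ind.map_add
  map_smul' := hh

/-- the linear equivalence of a linear lift -/
noncomputable def tolinE {g : G} {h : (Fin n → F) → (Fin n → F)} (hl : U.Lft g h) (hh : Lin h) :
    (Fin n → F) ≃ₗ[F] (Fin n → F) :=
  LinearEquiv.ofBijective (tolin hl hh) ⟨hl.ind.injective, hl.ind.surjective⟩

theorem tolinE_apply {g : G} {h : (Fin n → F) → (Fin n → F)} (hl : U.Lft g h) (hh : Lin h) (v : Fin n → F) :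
    tolinE hl hh v = h v := rfl

theorem exists_single (hn : 3 ≤ n) : ∃ v : Fin n → F, v ≠ 0 := by
  refine ⟨Pi.single ⟨0, by omega⟩ 1, fun h => ?_⟩
  have := congrFun h ⟨0, by omega⟩
  rw [Pi.single_eq_same] at this
  exact one_ne_zero this

theorem lft_herm {g : G} {h : (Fin n → F) → (Fin n → F)} (hl : U.Lft g h) (hh : Lin h) (u v : Fin n → F) :
    hermForm n F q (h u) (h v) = hermForm n F q u v := by
  obtain ⟨ρ, h1, h2⟩ := hl.ind.exists_rho
  rw [h2]
  obtain ⟨w, hw⟩ := exists_single (F := F) U.hn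
  have hw2 : h w ≠ 0 := fun h3 => hw (hl.ind.injective (h3.trans hl.ind.map_zero.symm))
  have h3 : ∀ c : F, ρ c = c := by
    intro c
    have h4 := (h1 c w).symm.trans (hh c w)
    by_contra h5
    have h6 : (ρ c - c) • h w = 0 := by rw [sub_smul, h4, sub_self]
    rcases smul_eq_zero.1 h6 with h7 | h7
    · exact h5 (sub_eq_zero.1 h7)
    · exact hw2 h7
  exact h3 _

/-- the linear part of `G` -/
def LL (U : UEnv G Ω N F n q) : Subgroup G where
  carrier := {g | ∃ h, U.Lft g h ∧ Lin h}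
  one_mem' := ⟨fun v => v, U.lft_one, fun c v => rfl⟩
  mul_mem' := by
    rintro a b ⟨h, h1, h2⟩ ⟨k, h3, h4⟩
    exact ⟨fun v => h (k v), h1.mul h3, fun c v => by show h (k (c • v)) = c • h (k v); rw [h4, h2]⟩
  inv_mem' := by
    rintro a ⟨h, h1, h2⟩
    obtain ⟨k, h3, h4, h5⟩ := h1.inv
    refine ⟨k, h3, fun c v => ?_⟩
    rw [← h5 (c • k v), h2, h4]

theorem mem_LL {g : G} : g ∈ LL U ↔ ∃ h, U.Lft g h ∧ Lin h := Iff.rfl

theorem N_le_LL : N ≤ LL U := by
  intro g hg
  obtain ⟨s, rfl⟩ := U.exists_el hg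
  exact ⟨act s, U.lft_el s, fun c v => act_smul s c v⟩

/-- counting the scalar multiples of lifts -/
theorem mul_card_le [Finite G] (X : Set G) (T : Set (Module.End F (Fin n → F)))
    (hX : ∀ g ∈ X, ∃ e ∈ T, U.Lft g (e : Module.End F (Fin n → F)))
    (hT : ∀ e ∈ T, ∀ c : F, c * c ^ q = 1 → c • e ∈ T) : (q + 1) * X.ncard ≤ T.ncard := by
  classical
  have hfin : Finite (Module.End F (Fin n → F)) := Module.finite_of_finite F
  choose! e he1 he2 using hX
  have h0 : (q + 1) * X.ncard = Nat.card ({c : F // c * c ^ q = 1} × X) := by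
    rw [Nat.card_prod, card_norm_eq_one U.hF]
    rfl
  rw [h0, ← Nat.card_coe_set_eq T]
  refine Nat.card_le_card_of_injective (fun p => ⟨p.1.1 • e p.2.1, hT _ (he1 _ p.2.2) _ p.1.2⟩) ?_
  rintro ⟨⟨c, hc⟩, ⟨g, hg⟩⟩ ⟨⟨c', hc'⟩, ⟨g', hg'⟩⟩ h
  have h1 : c • e g = c' • e g' := congrArg Subtype.val h
  have h2 : U.Lft g (fun v => c • e g v) := (he2 g hg).scalar hc
  have h3 : U.Lft g' (fun v => c' • e g' v) := (he2 g' hg').scalar hc'
  have h4 : (fun v => c • e g v) = fun v => c' • e g' v := funext fun v => LinearMap.congr_fun h1 v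
  rw [h4] at h2
  have h5 : g = g' := h2.inj h3
  subst h5
  obtain ⟨w, hw⟩ := exists_single (F := F) U.hn
  have hw2 : e g w ≠ 0 := fun h6 => hw ((he2 g hg).ind.injective (h6.trans (he2 g hg).ind.map_zero.symm))
  have h6 : (c - c') • e g w = 0 := by
    rw [sub_smul, sub_eq_zero]
    exact LinearMap.congr_fun h1 w
  rcases smul_eq_zero.1 h6 with h7 | h7
  · have h8 := sub_eq_zero.1 h7
    subst h8
    rfl
  · exact (hw2 h7).elim

theorem irr_stab {f : (Fin n → F) → (Fin n → F)} {g : G} (hl : U.Lft g f) (hh : Lin f)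
    (hirr : ∀ A : Submodule F (Fin n → F), Stab f A → A = ⊥ ∨ A = ⊤) :
    ∀ A : Submodule F (Fin n → F), (∀ v ∈ A, tolinE hl hh v ∈ A) → A = ⊥ ∨ A = ⊤ := fun A hA => hirr A hA

theorem scal_pow {x0 : G} {f0 : (Fin n → F) → (Fin n → F)} (hl : U.Lft x0 f0) {r : ℕ} (hr : x0 ^ r = 1) :
    ∃ d : F, d ≠ 0 ∧ ∀ v, f0^[r] v = d • v := by
  have h1 := hl.pow r
  obtain ⟨d, hd⟩ := h1.eq_one_iff.1 hr
  refine ⟨d, ?_, hd⟩
  rintro rfl
  obtain ⟨w, hw⟩ := exists_single (F := F) U.hn
  have h2 := hd w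
  rw [zero_smul] at h2
  exact hw (h1.ind.injective (h2.trans h1.ind.map_zero.symm))

theorem tolinE_pow {g : G} {h : (Fin n → F) → (Fin n → F)} (hl : U.Lft g h) (hh : Lin h) (m : ℕ) (v : Fin n → F) :
    ((tolinE hl hh) ^ m) v = h^[m] v := by
  induction m generalizing v with
  | zero => rfl
  | succ m ih =>
    rw [pow_succ]
    change ((tolinE hl hh) ^ m) (tolinE hl hh v) = _
    rw [ih, tolinE_apply, Function.iterate_succ_apply]

/-- the twist is an `r`-th root of one -/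
theorem twist_pow_r {f0 h : (Fin n → F) → (Fin n → F)} {g : G} (hl : U.Lft g h) (hh : Lin h) (hf : Lin f0)
    {c d : F} (hd0 : d ≠ 0) {r : ℕ} (hd : ∀ v, f0^[r] v = d • v) (hc : ∀ v, h (f0 v) = c • f0 (h v)) : c ^ r = 1 := by
  have key : ∀ m v, h (f0^[m] v) = c ^ m • f0^[m] (h v) := by
    intro m
    induction m with
    | zero => intro v; rw [pow_zero, one_smul]; rfl
    | succ m ih =>
      intro v
      rw [Function.iterate_succ_apply, ih, hc]
      have h1 : ∀ (k : ℕ) (w : Fin n → F), f0^[k] (c • w) = c • f0^[k] w := by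
        intro k
        induction k with
        | zero => intro w; rfl
        | succ k ihk => intro w; rw [Function.iterate_succ_apply, hf, ihk, Function.iterate_succ_apply]
      rw [h1, smul_smul, ← pow_succ, Function.iterate_succ_apply]
  obtain ⟨w, hw⟩ := exists_single (F := F) U.hn
  have hw2 : h w ≠ 0 := fun h6 => hw (hl.ind.injective (h6.trans hl.ind.map_zero.symm))
  have h1 := key r w
  rw [hd, hd, hh, smul_smul] at h1
  have h2 : (d - c ^ r * d) • h w = 0 := by rw [sub_smul, h1, sub_self]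
  rcases smul_eq_zero.1 h2 with h3 | h3
  · have h4 : (c ^ r - 1) * d = 0 := by linear_combination -h3
    rcases mul_eq_zero.1 h4 with h5 | h5
    · exact sub_eq_zero.1 h5
    · exact (hd0 h5).elim
  · exact (hw2 h3).elim

/-- `(q + 1) |C(x₀)| ≤ (q ^ n + 1) z` -/
theorem cent_le [Finite G] {x0 : G} {f0 : (Fin n → F) → (Fin n → F)} (hl : U.Lft x0 f0) (hf : Lin f0)
    (hirr : ∀ A : Submodule F (Fin n → F), Stab f0 A → A = ⊥ ∨ A = ⊤) {r : ℕ} (hrp : r.Prime) (hr : x0 ^ r = 1)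
    (hnr : n ≤ r) :
    (q + 1) * ({g : G | g ∈ LL U ∧ g * x0 = x0 * g}).ncard ≤ (if r = n then n else 1) * (q ^ n + 1) := by
  classical
  have hn := U.hn
  have hfin : Finite (Module.End F (Fin n → F)) := Module.finite_of_finite F
  obtain ⟨d, hd0, hd⟩ := scal_pow hl hr
  set Z : Finset F := if r = n then (Polynomial.nthRoots n (1 : F)).toFinset else {1} with hZ
  have hZc : Z.card ≤ if r = n then n else 1 := by
    rw [hZ]
    split_ifs
    · exact (Multiset.toFinset_card_le _).trans (Polynomial.card_nthRoots _ _)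
    · simp
  let Tc : F → Set (Module.End F (Fin n → F)) := fun c =>
    {e | (∀ v, e (tolinE hl hf v) = c • tolinE hl hf (e v)) ∧
      ∀ u v, hermForm n F q (e u) (e v) = hermForm n F q u v}
  have hTc : ∀ c, (Tc c).ncard ≤ q ^ n + 1 := fun c =>
    card_twist_le U.hF (by omega) (x := tolinE hl hf) (fun u v => lft_herm hl hf u v) (irr_stab hl hf hirr) c _
      (fun e he => he)
  have hT : (⋃ c ∈ Z, Tc c).ncard ≤ (if r = n then n else 1) * (q ^ n + 1) := by
    calc (⋃ c ∈ Z, Tc c).ncard ≤ ∑ c ∈ Z, (Tc c).ncard := by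
          exact Finset.set_ncard_biUnion_le Z Tc
      _ ≤ ∑ _c ∈ Z, (q ^ n + 1) := Finset.sum_le_sum fun c _ => hTc c
      _ = Z.card * (q ^ n + 1) := by rw [Finset.sum_const, smul_eq_mul]
      _ ≤ _ := Nat.mul_le_mul_right _ hZc
  refine (mul_card_le (U := U) _ (⋃ c ∈ Z, Tc c) ?_ ?_).trans hT
  · rintro g ⟨⟨h, h1, h2⟩, h3⟩
    refine ⟨tolin h1 h2, ?_, h1⟩
    have h4 : U.Lft (x0 * g) (fun v => f0 (h v)) := hl.mul h1
    have h5 : U.Lft (g * x0) (fun v => h (f0 v)) := h1.mul hl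
    rw [h3] at h5
    obtain ⟨c, -, hc⟩ := h4.unique h5
    have hcn : c ^ n = 1 := twist_pow (tolinE hl hf) (tolinE h1 h2) c hc
    have hcr : c ^ r = 1 := twist_pow_r h1 h2 hf hd0 hd hc
    rw [Set.mem_iUnion₂]
    refine ⟨c, ?_, hc, fun u v => lft_herm h1 h2 u v⟩
    rw [hZ]
    split_ifs with hrn
    · rw [Multiset.mem_toFinset, Polynomial.mem_nthRoots (by omega)]
      exact hcn
    · rw [Finset.mem_singleton]
      have hcop : Nat.Coprime n r := by
        rw [Nat.coprime_comm, hrp.coprime_iff_not_dvd]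
        intro hdv
        have := Nat.le_of_dvd (by omega) hdv
        omega
      have h6 : c ^ Nat.gcd n r = 1 := pow_gcd_eq_one.2 ⟨hcn, hcr⟩
      rwa [hcop, pow_one] at h6
  · intro e he a ha
    rw [Set.mem_iUnion₂] at he ⊢
    obtain ⟨c, hc, he1, he2⟩ := he
    refine ⟨c, hc, fun v => ?_, fun u v => ?_⟩
    · rw [LinearMap.smul_apply, LinearMap.smul_apply, he1, map_smul, smul_comm]
    · rw [LinearMap.smul_apply, LinearMap.smul_apply, herm_smul_left, herm_smul_right, he2, ← mul_assoc, ha, one_mul]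

/-- the elements with linear lifts commuting with `f₀` -/
def TT (U : UEnv G Ω N F n q) (f0 : (Fin n → F) → (Fin n → F)) (hf : Function.Injective f0) : Subgroup G where
  carrier := {g | ∃ h, U.Lft g h ∧ Lin h ∧ ∀ v, h (f0 v) = f0 (h v)}
  one_mem' := ⟨fun v => v, U.lft_one, fun c v => rfl, fun v => rfl⟩
  mul_mem' := by
    rintro a b ⟨h, h1, h2, h2'⟩ ⟨k, h3, h4, h4'⟩
    exact ⟨fun v => h (k v), h1.mul h3, fun c v => by show h (k (c • v)) = c • h (k v); rw [h4, h2],
      fun v => by show h (k (f0 v)) = f0 (h (k v)); rw [h4', h2']⟩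
  inv_mem' := by
    rintro a ⟨h, h1, h2, h2'⟩
    obtain ⟨k, h3, h4, h5⟩ := h1.inv
    refine ⟨k, h3, fun c v => ?_, fun v => ?_⟩
    · rw [← h5 (c • k v), h2, h4]
    · rw [← h5 (f0 (k v)), h2', h4]

theorem tt_le [Finite G] {x0 : G} {f0 : (Fin n → F) → (Fin n → F)} (hl : U.Lft x0 f0) (hf : Lin f0)
    (hirr : ∀ A : Submodule F (Fin n → F), Stab f0 A → A = ⊥ ∨ A = ⊤) :
    (q + 1) * Nat.card (TT U f0 hl.ind.injective) ≤ q ^ n + 1 := by
  have hn := U.hn
  have h0 : Nat.card (TT U f0 hl.ind.injective) = ((TT U f0 hl.ind.injective : Subgroup G) : Set G).ncard := rfl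
  rw [h0]
  refine (mul_card_le (U := U) _ {e : Module.End F (Fin n → F) | (∀ v, e (tolinE hl hf v) = tolinE hl hf (e v)) ∧
      ∀ u v, hermForm n F q (e u) (e v) = hermForm n F q u v} ?_ ?_).trans
    (card_comm_le U.hF (by omega) (x := tolinE hl hf) (fun u v => lft_herm hl hf u v) (irr_stab hl hf hirr) _
      (fun e he => he))
  · rintro g ⟨h, h1, h2, h3⟩
    exact ⟨tolin h1 h2, ⟨h3, fun u v => lft_herm h1 h2 u v⟩, h1⟩
  · rintro e ⟨he1, he2⟩ a ha
    refine ⟨fun v => ?_, fun u v => ?_⟩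
    · rw [LinearMap.smul_apply, LinearMap.smul_apply, he1, map_smul]
    · rw [LinearMap.smul_apply, LinearMap.smul_apply, herm_smul_left, herm_smul_right, he2, ← mul_assoc, ha, one_mul]

/-- **The algebra of box E7.** -/
theorem irr_alg [Finite G] (U : UEnv G Ω N F n q) {ι : Type*} [Fintype ι] {x : ι → G}
    {f : ι → (Fin n → F) → (Fin n → F)} {r : ι → ℕ} (fam : UFam U x f r) (ho : Odd n) (hlin : ∀ i, Lin (f i))
    (hirr : ∀ (i : ι) (A : Submodule F (Fin n → F)), Stab (f i) A → A = ⊥ ∨ A = ⊤) :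
    (∀ i, n ≤ r i) ∧ ∏ i, r i ≤ (q ^ n + 1) / (q + 1) ∧
      ∃ H : Subgroup G, N ≤ H ∧ (∀ i, x i ∈ H) ∧
        ∀ i, Nat.card {y : H // (y : G) * x i = x i * y} ≤ ((q ^ n + 1) / (q + 1)) * (if r i = n then n else 1) := by
  classical
  have hn := U.hn
  have hnr : ∀ i, n ≤ r i := by
    intro i
    obtain ⟨d, -, hd⟩ := scal_pow (fam.lft i) (fam.pf.pow i)
    exact le_of_irr (by omega) (fam.pf.prime i).pos (tolinE (fam.lft i) (hlin i)) (d := d)
      (fun v => by rw [tolinE_pow, hd]) (irr_stab (fam.lft i) (hlin i) (hirr i))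
  refine ⟨hnr, ?_, LL U, N_le_LL, fun i => ⟨f i, fam.lft i, hlin i⟩, fun i => ?_⟩
  · rw [Nat.le_div_iff_mul_le (Nat.succ_pos q), mul_comm]
    rcases isEmpty_or_nonempty ι with hι | ⟨⟨i0⟩⟩
    · rw [Finset.univ_eq_empty, Finset.prod_empty, mul_one]
      exact Nat.succ_le_succ (Nat.le_self_pow (by omega) q)
    · have h1 := tt_le (fam.lft i0) (hlin i0) (hirr i0)
      refine le_trans (Nat.mul_le_mul_left _ (Nat.le_of_dvd Nat.card_pos ?_)) h1
      apply Finset.prod_dvd_of_isRelPrime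
      · intro i _ j _ hij
        exact Nat.coprime_iff_isRelPrime.1 ((Nat.coprime_primes (fam.pf.prime i) (fam.pf.prime j)).2
          fun h => hij (fam.pf.inj h))
      · intro i _
        have := Fact.mk (fam.pf.prime i)
        have h2 : orderOf (x i) = r i := orderOf_eq_prime (fam.pf.pow i) (fam.pf.ne i)
        have h3 : x i ∈ TT U (f i0) (fam.lft i0).ind.injective := ⟨f i, fam.lft i, hlin i, fam.comm i i0⟩
        rw [← h2]
        exact Subgroup.orderOf_dvd_natCard _ h3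
  · have h1 := cent_le (fam.lft i) (hlin i) (hirr i) (fam.pf.prime i) (fam.pf.pow i) (hnr i)
    have h2 : Nat.card {y : LL U // (y : G) * x i = x i * y} = ({g : G | g ∈ LL U ∧ g * x i = x i * g}).ncard := by
      rw [← Nat.card_coe_set_eq]
      exact Nat.card_congr
        { toFun := fun y => ⟨y.1.1, y.1.2, y.2⟩
          invFun := fun y => ⟨⟨y.1, y.2.1⟩, y.2.2⟩
          left_inv := fun y => rfl
          right_inv := fun y => rfl }
    rw [h2]
    obtain ⟨t, ht⟩ : q + 1 ∣ q ^ n + 1 := by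
      have := Odd.nat_add_dvd_pow_add_pow q 1 ho
      rwa [one_pow] at this
    rw [ht, Nat.mul_div_cancel_left _ (Nat.succ_pos q)]
    rw [ht] at h1
    have h3 : (q + 1) * ({g : G | g ∈ LL U ∧ g * x i = x i * g}).ncard ≤
        (q + 1) * (t * (if r i = n then n else 1)) := by
      calc _ ≤ _ := h1
        _ = _ := by ring
    exact Nat.le_of_mul_le_mul_left h3 (Nat.succ_pos q)

end Cfsg.Agent.H664.RC
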