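import Cfsg.Agent.H664.RC.Torus
import Cfsg.Agent.H380.RC.EStmt

/-!
# S3510, box E7: the centralizer of an irreducible element of `PGU_n(q)` (helper664)
-/

set_option autoImplicit false

namespace Cfsg.Agent.H664.RC

open Module Matrix Cfsg Cfsg.Agent.LieClassical.HermBasic Cfsg.Agent.LieClassical.HermSiegel Cfsg.Agent.H380.RC

section field

variable {F : Type*} [Field F] [Fintype F] {q : ℕ}

/-- the automorphism `c ↦ c ^ q` -/
def fq (hF : Fintype.card F = q ^ 2) : F →+* F where
  toFun c := c ^ q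
  map_one' := one_pow q
  map_mul' a b := mul_pow a b q
  map_zero' := zero_pow_q hF
  map_add' a b := add_pow_q hF a b

end field

section lin

variable {F : Type*} [Field F] [Fintype F] {n q : ℕ}

/-- isometries commuting with an irreducible isometry -/
theorem card_comm_le (hF : Fintype.card F = q ^ 2) (hn : 0 < n) {x : (Fin n → F) ≃ₗ[F] (Fin n → F)}
    (hx : ∀ u v, hermForm n F q (x u) (x v) = hermForm n F q u v)
    (hirr : ∀ A : Submodule F (Fin n → F), (∀ v ∈ A, x v ∈ A) → A = ⊥ ∨ A = ⊤)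
    (T : Set (Module.End F (Fin n → F)))
    (hT : ∀ e ∈ T, (∀ v, e (x v) = x (e v)) ∧ ∀ u v, hermForm n F q (e u) (e v) = hermForm n F q u v) :
    T.ncard ≤ q ^ n + 1 := by
  have : Nonempty (Fin n) := ⟨⟨0, hn⟩⟩
  have : Nontrivial (Fin n → F) := inferInstance
  refine ncard_isom_le (fq hF) 1 (hermForm n F q) herm_add_left herm_smul_left ?_ ?_ ?_ x hx hirr ?_ T hT
  · intro v w
    rw [one_mul]
    exact herm_swap hF v w
  · intro w hw
    exact herm_nondeg hF fun v => herm_eq_zero_swap hF (hw v)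
  · exact exists_not_fixed hF
  · rw [Nat.card_fun, Nat.card_eq_fintype_card, hF, Nat.card_fin, ← pow_mul, ← pow_add]
    congr 1
    ring

/-- twisted version -/
theorem card_twist_le (hF : Fintype.card F = q ^ 2) (hn : 0 < n) {x : (Fin n → F) ≃ₗ[F] (Fin n → F)}
    (hx : ∀ u v, hermForm n F q (x u) (x v) = hermForm n F q u v)
    (hirr : ∀ A : Submodule F (Fin n → F), (∀ v ∈ A, x v ∈ A) → A = ⊥ ∨ A = ⊤) (c : F)
    (T : Set (Module.End F (Fin n → F)))
    (hT : ∀ e ∈ T, (∀ v, e (x v) = c • x (e v)) ∧ ∀ u v, hermForm n F q (e u) (e v) = hermForm n F q u v) :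
    T.ncard ≤ q ^ n + 1 := by
  classical
  have hfin : Finite (Module.End F (Fin n → F)) := Module.finite_of_finite F
  rcases T.eq_empty_or_nonempty with rfl | ⟨e0, he0⟩
  · simp
  have hinj : ∀ e : Module.End F (Fin n → F), (∀ u v, hermForm n F q (e u) (e v) = hermForm n F q u v) →
      Function.Injective e := by
    intro e he
    rw [injective_iff_map_eq_zero]
    intro v hv
    apply herm_nondeg hF
    intro w
    rw [← he, hv, herm_zero_left]
  let E0 : (Fin n → F) ≃ₗ[F] (Fin n → F) := LinearEquiv.ofInjectiveEndo e0 (hinj e0 (hT e0 he0).2)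
  have hE0 : ∀ v, E0 v = e0 v := fun v => rfl
  have hE1 : ∀ u v, hermForm n F q (E0.symm u) (E0.symm v) = hermForm n F q u v := by
    intro u v
    rw [← (hT e0 he0).2, ← hE0, ← hE0, E0.apply_symm_apply, E0.apply_symm_apply]
  by_cases hc : c = 0
  · exfalso
    have : Nonempty (Fin n) := ⟨⟨0, hn⟩⟩
    have : Nontrivial (Fin n → F) := inferInstance
    obtain ⟨v, hv⟩ := exists_ne (0 : Fin n → F)
    have h1 := (hT e0 he0).1 v
    rw [hc, zero_smul] at h1
    have h2 := hinj e0 (hT e0 he0).2 (h1.trans (map_zero e0).symm)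
    exact hv (x.injective (h2.trans (map_zero x).symm))
  have hx2 : ∀ w, E0.symm (x w) = c⁻¹ • x (E0.symm w) := by
    intro w
    rw [LinearEquiv.symm_apply_eq, map_smul, hE0, (hT e0 he0).1, smul_smul, inv_mul_cancel₀ hc, one_smul, ← hE0,
      E0.apply_symm_apply]
  have key : T.ncard = ((fun e : Module.End F (Fin n → F) => (E0.symm : (Fin n → F) →ₗ[F] (Fin n → F)) ∘ₗ e) '' T).ncard := by
    rw [Set.ncard_image_of_injective]
    intro a b hab
    exact LinearMap.ext fun w => E0.symm.injective (LinearMap.congr_fun hab w)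
  rw [key]
  refine card_comm_le hF hn hx hirr _ ?_
  rintro _ ⟨e, he, rfl⟩
  refine ⟨fun v => ?_, fun u v => ?_⟩
  · change E0.symm (e (x v)) = x (E0.symm (e v))
    rw [(hT e he).1, map_smul, hx2, smul_smul, mul_inv_cancel₀ hc, one_smul]
  · change hermForm n F q (E0.symm (e u)) (E0.symm (e v)) = _
    rw [hE1, (hT e he).2]

/-- the twist is an `n`-th root of one -/
theorem twist_pow (x e : (Fin n → F) ≃ₗ[F] (Fin n → F)) (c : F) (h : ∀ v, e (x v) = c • x (e v)) :
    c ^ n = 1 := by
  have h1 : LinearMap.det ((e : (Fin n → F) →ₗ[F] (Fin n → F)) ∘ₗ (x : (Fin n → F) →ₗ[F] (Fin n → F))) =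
      LinearMap.det (c • ((x : (Fin n → F) →ₗ[F] (Fin n → F)) ∘ₗ (e : (Fin n → F) →ₗ[F] (Fin n → F)))) := by
    congr 1
    exact LinearMap.ext fun w => h w
  rw [LinearMap.det_smul, LinearMap.det_comp, LinearMap.det_comp, finrank_fin_fun] at h1
  have h2 : LinearMap.det (e : (Fin n → F) →ₗ[F] (Fin n → F)) ≠ 0 := (LinearEquiv.isUnit_det' e).ne_zero
  have h3 : LinearMap.det (x : (Fin n → F) →ₗ[F] (Fin n → F)) ≠ 0 := (LinearEquiv.isUnit_det' x).ne_zero
  have h4 : (c ^ n - 1) * (LinearMap.det (x : (Fin n → F) →ₗ[F] (Fin n → F)) *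
      LinearMap.det (e : (Fin n → F) →ₗ[F] (Fin n → F))) = 0 := by
    linear_combination -h1
  rcases mul_eq_zero.1 h4 with h5 | h5
  · exact sub_eq_zero.1 h5
  · rcases mul_eq_zero.1 h5 with h6 | h6
    · exact (h3 h6).elim
    · exact (h2 h6).elim

omit [Fintype F] in
/-- an irreducible map whose `r`-th power is a scalar : `n ≤ r` -/
theorem le_of_irr (hn : 0 < n) {r : ℕ} (hr : 0 < r) (x : (Fin n → F) ≃ₗ[F] (Fin n → F)) {d : F} (hd : ∀ v, (x ^ r) v = d • v)
    (hirr : ∀ A : Submodule F (Fin n → F), (∀ v ∈ A, x v ∈ A) → A = ⊥ ∨ A = ⊤) : n ≤ r := by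
  have : Nonempty (Fin n) := ⟨⟨0, hn⟩⟩
  have : Nontrivial (Fin n → F) := inferInstance
  obtain ⟨v0, hv0⟩ := exists_ne (0 : Fin n → F)
  let g : Fin r → (Fin n → F) := fun j => (x ^ (j : ℕ)) v0
  have hinv : ∀ v ∈ Submodule.span F (Set.range g), x v ∈ Submodule.span F (Set.range g) := by
    intro v hv
    induction hv using Submodule.span_induction with
    | mem y hy =>
      obtain ⟨j, rfl⟩ := hy
      have h1 : x (g j) = (x ^ ((j : ℕ) + 1)) v0 := by
        rw [pow_succ']
        rfl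
      rw [h1]
      by_cases hj : (j : ℕ) + 1 < r
      · exact Submodule.subset_span ⟨⟨(j : ℕ) + 1, hj⟩, rfl⟩
      · have h2 : (j : ℕ) + 1 = r := by omega
        rw [h2, hd]
        refine Submodule.smul_mem _ _ (Submodule.subset_span ⟨⟨0, hr⟩, ?_⟩)
        change (x ^ 0) v0 = v0
        rw [pow_zero]
        rfl
    | zero => rw [map_zero]; exact Submodule.zero_mem _
    | add a b _ _ ha hb => rw [map_add]; exact Submodule.add_mem _ ha hb
    | smul c a _ ha => rw [map_smul]; exact Submodule.smul_mem _ _ ha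
  rcases hirr _ hinv with h | h
  · exfalso
    have h1 : v0 ∈ Submodule.span F (Set.range g) := by
      refine Submodule.subset_span ⟨⟨0, hr⟩, ?_⟩
      change (x ^ 0) v0 = v0
      rw [pow_zero]
      rfl
    rw [h] at h1
    exact hv0 ((Submodule.mem_bot F).1 h1)
  · have h1 : finrank F (Submodule.span F (Set.range g)) ≤ Fintype.card (Fin r) := finrank_range_le_card g
    rwa [h, finrank_top, finrank_fin_fun, Fintype.card_fin] at h1

end lin

end Cfsg.Agent.H664.RC
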