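import Cfsg.Agent.H371.AlgLemma

/-!
# S3510, box E7: isometries commuting with an irreducible isometry (helper664)

`ncard_isom_le` : at most `N + 1` isometries commute with an irreducible isometry of a hermitian space with `N²` vectors.
-/

set_option autoImplicit false

namespace Cfsg.Agent.H664.RC

open Module Cfsg.Agent.H371.Alg

section torus

variable {F V : Type*} [Field F] [Finite F] [AddCommGroup V] [Module F V] [Finite V]

/-- at most `N + 1` isometries commute with an irreducible isometry -/
theorem ncard_isom_le [Nontrivial V] (σ : F →+* F) (ε : F) (B : V → V → F)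
    (hadd : ∀ u v w, B (u + v) w = B u w + B v w) (hsmul : ∀ (c : F) v w, B (c • v) w = c * B v w)
    (hsym : ∀ v w, B w v = ε * σ (B v w)) (hnd : ∀ w, (∀ v, B v w = 0) → w = 0)
    (hσ : ∃ c, σ c ≠ c)
    (x : V ≃ₗ[F] V) (hxB : ∀ v w, B (x v) (x w) = B v w)
    (hirr : ∀ W : Submodule F V, (∀ w ∈ W, x w ∈ W) → W = ⊥ ∨ W = ⊤)
    {N : ℕ} (hN : N * N = Nat.card V) (S : Set (Module.End F V))
    (hS : ∀ a ∈ S, (∀ v, a (x v) = x (a v)) ∧ ∀ v w, B (a v) (a w) = B v w) : S.ncard ≤ N + 1 := by
  classical
  have hfd : FiniteDimensional F V := Module.Finite.of_finite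
  have hbij := dl_bijective hadd hsmul hsym hnd
  have huniq : ∀ w w', (∀ v, B v w = B v w') → w = w' := by
    intro w w' h
    apply hbij.1
    ext v
    exact h v
  have hext : ∀ a b : Module.End F V, (∀ v w, B v (a w) = B v (b w)) → a = b := by
    intro a b h
    ext w
    exact huniq _ _ (fun v => h v w)
  set x' : Module.End F V := (x : V →ₗ[F] V) with hx'
  have hx'v : ∀ v, x' v = x v := fun v => rfl
  have : Finite (Module.End F V) := Module.finite_of_finite F
  -- membership
  have hmem : ∀ a : Module.End F V, Commute a x' →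
      a ∈ Subalgebra.centralizer F ({x'} : Set (Module.End F V)) := fun a ha =>
    (Subalgebra.mem_centralizer_iff F).2 (fun y hy => by rw [Set.mem_singleton_iff.1 hy]; exact ha.symm)
  have hmem' : ∀ a : Subalgebra.centralizer F ({x'} : Set (Module.End F V)),
      Commute (a : Module.End F V) x' := fun a => (((Subalgebra.mem_centralizer_iff F).1 a.2) x' rfl).symm
  have hcomv : ∀ (a : Module.End F V), Commute a x' → ∀ v, a (x v) = x (a v) := by
    intro a ha v
    exact LinearMap.congr_fun ha.eq v
  -- nonzero elements are injective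
  have hinj : ∀ a : Module.End F V, Commute a x' → a ≠ 0 → ∀ v, a v = 0 → v = 0 := by
    intro a ha ha0 v hv
    rcases hirr (LinearMap.ker a) (by
      intro w hw
      rw [LinearMap.mem_ker] at hw ⊢
      rw [hcomv a ha, hw, map_zero]) with h | h
    · have : v ∈ LinearMap.ker a := hv
      rw [h] at this
      exact (Submodule.mem_bot F).1 this
    · exact (ha0 (LinearMap.ker_eq_top.1 h)).elim
  have hnz : NoZeroDivisors (Subalgebra.centralizer F ({x'} : Set (Module.End F V))) := by
    constructor
    intro a b hab
    by_contra hcon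
    push Not at hcon
    obtain ⟨ha, hb⟩ := hcon
    have ha' : (a : Module.End F V) ≠ 0 := fun h => ha (Subtype.ext h)
    have hb' : (b : Module.End F V) ≠ 0 := fun h => hb (Subtype.ext h)
    obtain ⟨v, hv⟩ := exists_ne (0 : V)
    have h1 := congrArg Subtype.val hab
    have h2 : (a : Module.End F V) ((b : Module.End F V) v) = 0 := LinearMap.congr_fun h1 v
    exact hv (hinj _ (hmem' b) hb' v (hinj _ (hmem' a) ha' _ h2))
  have hnt : Nontrivial (Subalgebra.centralizer F ({x'} : Set (Module.End F V))) := by
    refine ⟨0, 1, fun h => ?_⟩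
    obtain ⟨v, hv⟩ := exists_ne (0 : V)
    exact hv (LinearMap.congr_fun (congrArg Subtype.val h) v).symm
  have hdom : IsDomain (Subalgebra.centralizer F ({x'} : Set (Module.End F V))) := NoZeroDivisors.to_isDomain _
  have hfield := Finite.isDomain_to_isField (Subalgebra.centralizer F ({x'} : Set (Module.End F V)))
  have hcom : ∀ a b : Module.End F V, Commute a x' → Commute b x' → a * b = b * a := by
    intro a b ha hb
    exact congrArg Subtype.val (hfield.mul_comm ⟨a, hmem a ha⟩ ⟨b, hmem b hb⟩)
  let _ : Field (Subalgebra.centralizer F ({x'} : Set (Module.End F V))) := hfield.toField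
  -- adjoint
  choose st hst using exists_adjoint hadd hsmul hsym hnd
  have hst2 : ∀ a v w, B (st a v) w = B v (a w) := by
    intro a v w
    rw [hsym w (st a v), ← hst, ← hsym]
  have hstst : ∀ a, st (st a) = a := fun a => hext _ _ (fun v w => by rw [← hst, hst2])
  have hstadd : ∀ a b, st (a + b) = st a + st b := fun a b => hext _ _ (fun v w => by
    rw [← hst, LinearMap.add_apply, LinearMap.add_apply, hadd, right_add hadd hsym, ← hst, ← hst])
  have hstmul : ∀ a b, st (a * b) = st b * st a := fun a b => hext _ _ (fun v w => by
    rw [← hst, Module.End.mul_apply, Module.End.mul_apply, hst, hst])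
  have hstone : st 1 = 1 := hext _ _ (fun v w => by rw [← hst]; rfl)
  have hstzero : st 0 = 0 := by
    have := hstadd 0 0
    rw [add_zero] at this
    exact left_eq_add.1 this
  set xi : Module.End F V := ((x⁻¹ : V ≃ₗ[F] V) : V →ₗ[F] V) with hxi
  have hxxi : x' * xi = 1 := by
    ext v
    change x (x⁻¹ v) = v
    exact x.apply_symm_apply v
  have hxix : xi * x' = 1 := by
    ext v
    change x⁻¹ (x v) = v
    exact x.symm_apply_apply v
  have hstx : st x' = xi := hext _ _ (fun v w => by
    rw [← hst, hx'v, ← hxB v (xi w)]
    congr 1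
    exact (x.apply_symm_apply w).symm)
  have hstmem : ∀ a : Subalgebra.centralizer F ({x'} : Set (Module.End F V)),
      Commute (st (a : Module.End F V)) x' := by
    intro a
    have h1 := congrArg st (hmem' a).eq
    rw [hstmul, hstmul, hstx] at h1
    have h2 : Commute (st (a : Module.End F V)) xi := h1.symm
    have h3 : x' * st (a : Module.End F V) = st (a : Module.End F V) * x' := by
      calc x' * st (a : Module.End F V) = x' * (st (a : Module.End F V) * xi) * x' := by
            rw [mul_assoc, mul_assoc, hxix, mul_one]
        _ = x' * (xi * st (a : Module.End F V)) * x' := by rw [h2.eq]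
        _ = st (a : Module.End F V) * x' := by rw [← mul_assoc, hxxi, one_mul]
    exact h3.symm
  let f : Subalgebra.centralizer F ({x'} : Set (Module.End F V)) →+*
      Subalgebra.centralizer F ({x'} : Set (Module.End F V)) :=
    { toFun := fun a => ⟨st a, hmem _ (hstmem a)⟩
      map_one' := Subtype.ext hstone
      map_zero' := Subtype.ext hstzero
      map_add' := fun a b => Subtype.ext (hstadd a b)
      map_mul' := fun a b => Subtype.ext (by
        change st ((a : Module.End F V) * b) = st (a : Module.End F V) * st (b : Module.End F V)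
        rw [hstmul]
        exact hcom _ _ (hstmem b) (hstmem a)) }
  -- card
  obtain ⟨v0, hv0⟩ := exists_ne (0 : V)
  have hcardK : Nat.card (Subalgebra.centralizer F ({x'} : Set (Module.End F V))) = Nat.card V := by
    refine Nat.card_congr (Equiv.ofBijective
      (fun a : Subalgebra.centralizer F ({x'} : Set (Module.End F V)) => (a : Module.End F V) v0) ⟨?_, ?_⟩)
    · intro a b hab
      by_contra hne
      have h1 : (a : Module.End F V) - b ≠ 0 := by
        intro h
        exact hne (Subtype.ext (sub_eq_zero.1 h))
      have h2 : Commute ((a : Module.End F V) - b) x' := (hmem' a).sub_left (hmem' b)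
      apply hv0
      apply hinj _ h2 h1
      rw [LinearMap.sub_apply]
      exact sub_eq_zero.2 hab
    · let W : Submodule F V :=
        { carrier := {v | ∃ a : Subalgebra.centralizer F ({x'} : Set (Module.End F V)),
            (a : Module.End F V) v0 = v}
          add_mem' := by
            rintro _ _ ⟨a, rfl⟩ ⟨b, rfl⟩
            exact ⟨a + b, rfl⟩
          zero_mem' := ⟨0, rfl⟩
          smul_mem' := by
            rintro c _ ⟨a, rfl⟩
            exact ⟨c • a, rfl⟩ }
      have hW := hirr W (by
        rintro _ ⟨a, rfl⟩
        exact ⟨⟨x', hmem x' (Commute.refl x')⟩ * a, rfl⟩)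
      intro v
      rcases hW with h | h
      · exfalso
        have : v0 ∈ W := ⟨1, rfl⟩
        rw [h] at this
        exact hv0 ((Submodule.mem_bot F).1 this)
      · have : v ∈ W := by rw [h]; exact Submodule.mem_top
        exact this
  have hf := eq_pow_of_involutive f (fun a => Subtype.ext (hstst a)) (by
    obtain ⟨c, hc⟩ := hσ
    refine ⟨c • 1, fun h => hc ?_⟩
    have h1 : st (c • (1 : Module.End F V)) = c • (1 : Module.End F V) := congrArg Subtype.val h
    have h2 : ∀ v w, c * B v w = σ c * B v w := by
      intro v w
      have h3 := hst (c • (1 : Module.End F V)) v w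
      rw [h1] at h3
      change B (c • v) w = B v (c • w) at h3
      rwa [hsmul, right_smul hsmul hsym] at h3
    obtain ⟨v, hv⟩ : ∃ v, B v v0 ≠ 0 := by
      by_contra hcon
      push Not at hcon
      exact hv0 (hnd v0 hcon)
    exact (mul_right_cancel₀ hv (h2 v v0)).symm) (N := N) (by rw [hN, hcardK])
  -- the injection into the roots of unity
  have hN0 : 0 < N + 1 := Nat.succ_pos _
  have hSmem : ∀ a ∈ S, Commute a x' := fun a ha => LinearMap.ext fun v => (hS a ha).1 v
  let T : Finset (Subalgebra.centralizer F ({x'} : Set (Module.End F V))) :=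
    (Polynomial.nthRoots (N + 1) (1 : Subalgebra.centralizer F ({x'} : Set (Module.End F V)))).toFinset
  have hT : T.card ≤ N + 1 := (Multiset.toFinset_card_le _).trans (Polynomial.card_nthRoots _ _)
  have hsub : S ⊆ (Subtype.val '' (T : Set (Subalgebra.centralizer F ({x'} : Set (Module.End F V))))) := by
    intro a ha
    refine ⟨⟨a, hmem a (hSmem a ha)⟩, ?_, rfl⟩
    have h1 : st a * a = 1 := by
      apply hext
      intro v w
      rw [Module.End.mul_apply, ← hst]
      exact (hS a ha).2 v w
    have h2 : (⟨a, hmem a (hSmem a ha)⟩ : Subalgebra.centralizer F ({x'} : Set (Module.End F V))) ^ (N + 1) = 1 := by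
      rw [pow_succ, ← hf]
      exact Subtype.ext h1
    rw [Finset.mem_coe, Multiset.mem_toFinset, Polynomial.mem_nthRoots hN0]
    exact h2
  calc S.ncard ≤ (Subtype.val '' (T : Set (Subalgebra.centralizer F ({x'} : Set (Module.End F V))))).ncard :=
        Set.ncard_le_ncard hsub (Set.toFinite _)
    _ ≤ (T : Set (Subalgebra.centralizer F ({x'} : Set (Module.End F V)))).ncard := Set.ncard_image_le (Set.toFinite _)
    _ = T.card := Set.ncard_coe_finset _
    _ ≤ N + 1 := hT

end torus

end Cfsg.Agent.H664.RC
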